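import Groth.Agent.HomCorrLib.Immersion

/-!
Morphisms of flat schemes which are isomorphisms modulo a nilpotent ideal are isomorphisms.
-/

set_option autoImplicit false
set_option backward.isDefEq.respectTransparency false
set_option linter.style.haveILetI false

noncomputable section

universe u

open CategoryTheory CategoryTheory.Limits MonoidalCategory CartesianMonoidalCategory AlgebraicGeometry
open scoped TensorProduct

namespace FlatNilIso

open Groth.Agent.HomCorr
open PowEtCentralLib (res inc inc_left resMap resMap_inc)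

variable {R : Type u} [CommRing R] {J : Ideal R}

/-- The structure map on sections over an open. -/
abbrev rho {W : Scheme.{u}} (f : W ⟶ Spec (CommRingCat.of R)) (U : W.Opens) : R →+* Γ(W, U) :=
  ((Scheme.ΓSpecIso (CommRingCat.of R)).inv ≫ f.appLE ⊤ U le_top).hom

/-- Sections vanishing on the closed subscheme lie in the ideal. -/
theorem mem_of_inc_app_eq_zero (Y : Over (Spec (CommRingCat.of R))) {V : Y.left.Opens} (hV : IsAffineOpen V)
    {b : Γ(Y.left, V)} (hb : (inc (jJ J) Y).left.app V b = 0) : b ∈ J.map (rho Y.hom V) := by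
  let c := (inc (jJ J) Y).left
  let K : Ideal Γ(Y.left, V) := J.map (rho Y.hom V)
  let mk : Γ(Y.left, V) ⟶ CommRingCat.of (Γ(Y.left, V) ⧸ K) := CommRingCat.ofHom (Ideal.Quotient.mk K)
  let θ : (R ⧸ J) →+* Γ(Y.left, V) ⧸ K := Ideal.Quotient.lift J ((Ideal.Quotient.mk K).comp (rho Y.hom V))
    fun r hr => Ideal.Quotient.eq_zero_iff_mem.2 (Ideal.mem_map_of_mem _ hr)
  have hcond : (Spec.map mk ≫ hV.fromSpec) ≫ Y.hom = Spec.map (CommRingCat.ofHom θ) ≫ jJ J := by
    have e := (isAffineOpen_top (Spec (CommRingCat.of R))).SpecMap_appLE_fromSpec Y.hom hV (le_top : V ≤ Y.hom ⁻¹ᵁ ⊤)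
    rw [IsAffineOpen.fromSpec_top, Scheme.isoSpec_Spec_inv, ← Spec.map_comp] at e
    rw [Category.assoc, ← e, ← Spec.map_comp, ← Spec.map_comp]
    rfl
  haveI : IsClosedImmersion c := inferInstance
  let k : Spec (CommRingCat.of (Γ(Y.left, V) ⧸ K)) ⟶ (res (jJ J) Y).left :=
    pullback.lift (Spec.map mk ≫ hV.fromSpec) (Spec.map (CommRingCat.ofHom θ)) hcond
  have hk : k ≫ c = Spec.map mk ≫ hV.fromSpec := by
    show k ≫ (inc (jJ J) Y).left = _
    rw [inc_left]
    exact pullback.lift_fst _ _ _
  have hV' : IsAffineOpen (c ⁻¹ᵁ V) := hV.preimage c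
  have hsub : Set.range k ⊆ Set.range hV'.fromSpec := by
    rintro _ ⟨t, rfl⟩
    rw [hV'.range_fromSpec]
    show c (k t) ∈ V
    rw [show c (k t) = (k ≫ c) t from rfl, hk]
    show hV.fromSpec (Spec.map mk t) ∈ (V : Set Y.left)
    rw [← hV.range_fromSpec]
    exact ⟨_, rfl⟩
  obtain ⟨γ, hγ⟩ := Spec.map_surjective (IsOpenImmersion.lift hV'.fromSpec k hsub)
  have e : Spec.map (c.appLE V (c ⁻¹ᵁ V) le_rfl ≫ γ) ≫ hV.fromSpec = Spec.map mk ≫ hV.fromSpec := by
    rw [Spec.map_comp, Category.assoc, hV.SpecMap_appLE_fromSpec c hV', ← Category.assoc, hγ,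
      IsOpenImmersion.lift_fac, hk]
  have e' := Spec.map_injective ((cancel_mono hV.fromSpec).1 e)
  show b ∈ K
  rw [← Ideal.Quotient.eq_zero_iff_mem]
  show mk b = 0
  rw [← e']
  show γ (c.appLE V (c ⁻¹ᵁ V) le_rfl b) = 0
  rw [← Scheme.Hom.app_eq_appLE]
  exact (congrArg γ.hom hb).trans (map_zero γ.hom)

/-- A surjection onto a flat algebra with kernel in `J B` for a nilpotent `J` is injective. -/
theorem ker_eq_bot {B C : Type u} [CommRing B] [CommRing C] [Algebra R B] [Algebra R C] [Module.Flat R C]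
    (hJ : IsNilpotent J) (φ : B →ₐ[R] C) (hφ : Function.Surjective φ)
    (hker : RingHom.ker φ.toRingHom ≤ J.map (algebraMap R B)) : RingHom.ker φ.toRingHom = ⊥ := by
  let K := RingHom.ker φ.toRingHom
  let K' : Submodule R B := K.restrictScalars R
  have hstep : K ≤ J.map (algebraMap R B) * K := by
    intro b hb
    have hμ : ∀ x ∈ J.map (algebraMap R B), ∃ τ : B ⊗[R] J, ((TensorProduct.rid R B).toLinearMap ∘ₗ
        J.subtype.lTensor B) τ = x := by
      intro x hx
      rw [Ideal.map, Ideal.span] at hx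
      induction hx using Submodule.span_induction with
      | mem x hx =>
        obtain ⟨a, ha, rfl⟩ := hx
        exact ⟨1 ⊗ₜ ⟨a, ha⟩, by simp [Algebra.algebraMap_eq_smul_one]⟩
      | zero => exact ⟨0, map_zero _⟩
      | add x y _ _ hx hy =>
        obtain ⟨a, rfl⟩ := hx
        obtain ⟨a', rfl⟩ := hy
        exact ⟨a + a', map_add _ _ _⟩
      | smul c x _ hx =>
        obtain ⟨a, rfl⟩ := hx
        refine ⟨(LinearMap.mulLeft R c).rTensor _ a, ?_⟩
        clear * - a
        induction a using TensorProduct.induction_on with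
        | zero => simp
        | tmul b j => simp
        | add a b ha hb => simp [map_add, ha, hb, mul_add]
    obtain ⟨τ, hτ⟩ := hμ b (hker hb)
    have hz : φ.toLinearMap.rTensor J τ = 0 := by
      apply (TensorProduct.rid R C).injective.comp
        (Module.Flat.lTensor_preserves_injective_linearMap (M := C) J.subtype Subtype.val_injective)
      have hnat : ∀ σ : B ⊗[R] J, TensorProduct.rid R C (J.subtype.lTensor C (φ.toLinearMap.rTensor J σ)) =
          φ ((TensorProduct.rid R B).toLinearMap (J.subtype.lTensor B σ)) := by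
        intro σ
        induction σ using TensorProduct.induction_on with
        | zero => simp
        | tmul x j => simp
        | add a b ha hb => simp [map_add, ha, hb]
      show TensorProduct.rid R C (J.subtype.lTensor C _) = TensorProduct.rid R C (J.subtype.lTensor C 0)
      rw [hnat, map_zero, map_zero]
      exact (congrArg φ hτ).trans hb
    have hex : Function.Exact (LinearMap.ker φ.toLinearMap).subtype φ.toLinearMap :=
      LinearMap.exact_subtype_ker_map _
    obtain ⟨σ, rfl⟩ := ((rTensor_exact J hex hφ) τ).mp hz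
    rw [← hτ]
    clear hτ hz hb
    induction σ using TensorProduct.induction_on with
    | zero => simp
    | tmul x j =>
      simp only [LinearMap.rTensor_tmul, LinearMap.comp_apply, LinearMap.lTensor_tmul, LinearEquiv.coe_coe,
        TensorProduct.rid_tmul, Submodule.subtype_apply]
      rw [Algebra.smul_def]
      exact Ideal.mul_mem_mul (Ideal.mem_map_of_mem _ j.2) x.2
    | add a b ha hb => simp only [map_add]; exact add_mem ha hb
  obtain ⟨n, hn⟩ := hJ
  have hpow : ∀ k, K ≤ J.map (algebraMap R B) ^ k * K := by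
    intro k
    induction k with
    | zero => simp
    | succ k ih =>
      calc K ≤ J.map (algebraMap R B) ^ k * K := ih
        _ ≤ J.map (algebraMap R B) ^ k * (J.map (algebraMap R B) * K) := Ideal.mul_mono_right hstep
        _ = _ := by rw [pow_succ, _root_.mul_assoc]
  refine le_bot_iff.mp ((hpow n).trans ?_)
  rw [← Ideal.map_pow, hn]
  simp

/-- Flatness of a morphism inverts isomorphisms modulo nilpotents. -/
theorem isIso_of_nilpotent (hJ : IsNilpotent J) {X Y : Over (Spec (CommRingCat.of R))} [Flat X.hom] (l : X ⟶ Y)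
    [IsIso ((Over.pullback (jJ J)).map l)] : IsIso l := by
  let cX := (inc (jJ J) X).left
  let cY := (inc (jJ J) Y).left
  let m := (resMap (jJ J) l).left
  haveI : IsIso (resMap (jJ J) l) := inferInstanceAs (IsIso ((Over.map (jJ J)).map ((Over.pullback (jJ J)).map l)))
  haveI : IsIso m := inferInstanceAs (IsIso ((Over.forget _).map (resMap (jJ J) l)))
  have hsq : m ≫ cY = cX ≫ l.left := by
    rw [← Over.comp_left, ← Over.comp_left, resMap_inc]
  haveI : IsClosedImmersion (cX ≫ l.left) := by rw [← hsq]; infer_instance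
  haveI : IsClosedImmersion l.left := isClosedImmersion_of_nilpotent hJ l ‹_›
  have key : l.left.ker = ⊥ := by
    refine Scheme.IdealSheafData.ext_of_iSup_eq_top (fun V : Y.left.affineOpens => V) (iSup_affineOpens_eq_top _) ?_
    intro V
    rw [Scheme.IdealSheafData.ideal_bot, Scheme.Hom.ker_apply]
    letI : Algebra R Γ(Y.left, V.1) := (rho Y.hom V.1).toAlgebra
    letI : Algebra R Γ(X.left, l.left ⁻¹ᵁ V.1) := (rho X.hom (l.left ⁻¹ᵁ V.1)).toAlgebra
    haveI : Module.Flat R Γ(X.left, l.left ⁻¹ᵁ V.1) :=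
      RingHom.Flat.comp (RingHom.Flat.of_bijective
        (Scheme.ΓSpecIso (CommRingCat.of R)).commRingCatIsoToRingEquiv.symm.bijective)
        (Flat.flat_appLE X.hom (isAffineOpen_top _) (V.2.preimage l.left) le_top)
    have hρ : (l.left.app V.1).hom.comp (rho Y.hom V.1) = rho X.hom (l.left ⁻¹ᵁ V.1) := by
      rw [← CommRingCat.hom_comp, Category.assoc]
      refine congrArg CommRingCat.Hom.hom (congrArg ((Scheme.ΓSpecIso (CommRingCat.of R)).inv ≫ ·) ?_)
      rw [Scheme.Hom.app_eq_appLE, Scheme.Hom.appLE_comp_appLE]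
      simp only [Over.w l]
    let φ : Γ(Y.left, V.1) →ₐ[R] Γ(X.left, l.left ⁻¹ᵁ V.1) :=
      { (l.left.app V.1).hom with commutes' := fun a => RingHom.congr_fun hρ a }
    refine ker_eq_bot hJ φ (Scheme.Hom.app_surjective _ V.1 V.2) fun b hb => ?_
    refine mem_of_inc_app_eq_zero Y V.2 ?_
    have h1 : (m ≫ cY).app V.1 b = 0 := by
      have hb' : l.left.app V.1 b = 0 := hb
      rw [Scheme.Hom.congr_app hsq, Scheme.Hom.comp_app, CommRingCat.comp_apply, CommRingCat.comp_apply, hb',
        map_zero, map_zero]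
    rw [Scheme.Hom.comp_app, CommRingCat.comp_apply] at h1
    exact (map_eq_zero_iff _ (ConcreteCategory.bijective_of_isIso (m.app (cY ⁻¹ᵁ V.1))).1).mp h1
  haveI : IsIso l.left := IsClosedImmersion.isIso_iff_ker_eq_bot.mpr key
  haveI : IsIso ((Over.forget _).map l) := ‹IsIso l.left›
  exact isIso_of_reflects_iso l (Over.forget _)

end FlatNilIso
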